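import Cfsg.Agent.H816.IMEig

/-!
# S4884, the Baby Monster: an irreducible character of degree `356054375` (helper141)

Interface.  `X` = the `27143910000` signed axes, `c` = the eight signed colours (helper877, `H877/BSgn*.lean`):
`0` equal, `1` opposite, `2,3` = `2B` (inner product `± 1/7`), `4,5` = `3A` (`± 1/28`), `6` = `2C`, `7` = `4B` (both `0`).
`τ x` = the transposition of the axis `x`.
-/

set_option autoImplicit false

namespace Cfsg.Agent.H141.BM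

open Cfsg Cfsg.Agent.H816.IMEig Cfsg.Agent.H816.IMEig.Col

universe u v

/-- The numbers `#{y | c x₀ y = u, c z₀ y = w}` for a pair `(x₀, z₀)` of colour `3` (`= H877.BSgn.t8`). -/
def t8 : Fin 8 → Fin 8 → ℕ := ![
  ![0, 0, 0, 1, 0, 0, 0, 0],
  ![0, 0, 1, 0, 0, 0, 0, 0],
  ![0, 1, 1782, 44352, 0, 2097152, 0, 1824768],
  ![1, 0, 44352, 1782, 2097152, 0, 0, 1824768],
  ![0, 0, 0, 2097152, 84934656, 415236096, 0, 1868562432],
  ![0, 0, 2097152, 0, 415236096, 84934656, 0, 1868562432],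
  ![0, 0, 0, 0, 0, 0, 811008, 45416448],
  ![0, 0, 1824768, 1824768, 1868562432, 1868562432, 45416448, 18561894912]]

/-- The spherical functions of degree `4371`, `63532485`, `13508418144` (`= H877.BSgn.v0, v1, v2`). -/
noncomputable def v0 : Fin 8 → ℂ := ![1, -1, 1/7, -1/7, 1/28, -1/28, 0, 0]
noncomputable def v1 : Fin 8 → ℂ := ![1, -1, 7/969, -7/969, -1/20672, 1/20672, 0, 0]
noncomputable def v2 : Fin 8 → ℂ := ![1, -1, -1/29393, 1/29393, 1/4630528, -1/4630528, 0, 0]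

/-- `c y (τ x • y) = zc (c x y)`. -/
def zc : Fin 8 → Fin 8 := ![0, 0, 0, 0, 4, 4, 1, 3]

/-- The value of the character of degree `4371` at `τ x * τ y`, `u = c x y`. -/
def vl : Fin 8 → ℤ := ![4371, 4371, 275, 275, 78, 78, -53, 51]

/-- **The frame**: everything that is used of the Baby Monster. -/
structure Fr (G : Type u) [Group G] (X : Type v) [MulAction G X] (c : X → X → Fin 8) (τ : X → G) : Prop where
  col : Col G X (Fin 8) c 0
  ex : ∃ x₀ z₀ : X, c x₀ z₀ = 3 ∧ ∀ u w : Fin 8, Nat.card {y // c x₀ y = u ∧ c z₀ y = w} = t8 u w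
  e0 : Eig (3 : Fin 8) 0 t8 (-566865) v0
  e1 : Eig (3 : Fin 8) 0 t8 (-28665) v1
  e2 : Eig (3 : Fin 8) 0 t8 (135) v2
  /-- `τ` is equivariant -/
  smul : ∀ (g : G) (x : X), τ (g • x) = g * τ x * g⁻¹
  sq : ∀ x, τ x * τ x = 1
  tcol : ∀ x y, c y (τ x • y) = zc (c x y)
  eq : ∀ x y, c x y = 0 ∨ c x y = 1 → τ x = τ y
  com : ∀ x y, c x y = 2 ∨ c x y = 3 ∨ c x y = 6 → τ x * τ y = τ y * τ x
  three : ∀ x y, c x y = 4 ∨ c x y = 5 → (τ x * τ y) ^ 3 = 1
  four : ∀ x y, c x y = 7 → (τ x * τ y) ^ 4 = 1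

section

variable {G : Type u} [Group G] {X : Type v} [MulAction G X] [Fintype X]

/-- The character of the eigenspace of `ω`, `S = ∑ u, k u * ω u ^ 2`. -/
noncomputable def ch (c : X → X → Fin 8) (ω : Fin 8 → ℂ) (g : G) : ℂ := (SS t8 ω)⁻¹ * ∑ y : X, ω (c (g • y) y)

end

/-- The character of the symmetric cube. -/
noncomputable def cube {G : Type u} [Group G] (χ : G → ℂ) (g : G) : ℂ :=
  (χ g ^ 3 + 3 * (χ g * χ (g ^ 2)) + 2 * χ (g ^ 3)) / 6

/-- The residue condition at `19`: `τ` an involution of class `2A`. -/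
def Res (G : Type u) [Group G] (s : G) : Prop :=
  ∀ χ : G → ℂ, IsIrrCharacter G χ → ∃ n : ℤ, χ 1 + χ s = 2 * n ∧ (n % 19 = 0 ∨ n % 19 = 1 ∨ n % 19 = 18)

/-! ### The pieces -/

section pieces

variable {G : Type u} [Group G] [Finite G] {X : Type v} [MulAction G X] [Fintype X] {c : X → X → Fin 8} {τ : X → G}

/-- piece IRR -/
def IrrStmt (G : Type u) [Group G] [Finite G] (X : Type v) [MulAction G X] [Fintype X] (c : X → X → Fin 8)
    (τ : X → G) : Prop := Fr G X c τ →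
  IsIrrCharacter G (ch c v0 : G → ℂ) ∧ IsIrrCharacter G (ch c v1 : G → ℂ) ∧ IsIrrCharacter G (ch c v2 : G → ℂ) ∧
    (ch c v0 : G → ℂ) 1 = 4371 ∧ (ch c v1 : G → ℂ) 1 = 63532485 ∧ (ch c v2 : G → ℂ) 1 = 13508418144

/-- piece VAL -/
def ValStmt (G : Type u) [Group G] [Finite G] (X : Type v) [MulAction G X] [Fintype X] (c : X → X → Fin 8)
    (τ : X → G) : Prop := Fr G X c τ →
  (∀ x, (ch c v0 : G → ℂ) (τ x) = -493 ∧ (ch c v1 : G → ℂ) (τ x) = -468027 ∧ (ch c v2 : G → ℂ) (τ x) = -18677152) ∧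
    ∀ x y, (ch c v0 : G → ℂ) (τ x * τ y) = vl (c x y)

/-- piece CUBE -/
def CubeStmt (G : Type u) [Group G] [Finite G] (X : Type v) [MulAction G X] [Fintype X] (c : X → X → Fin 8)
    (τ : X → G) : Prop := Fr G X c τ →
  ∃ θ : G → ℂ, IsCharacter G θ ∧
    ∀ g, cube (ch c v0) g = 2 * (ch c v0 : G → ℂ) g + (ch c v1 : G → ℂ) g + (ch c v2 : G → ℂ) g + θ g

end pieces

end Cfsg.Agent.H141.BM
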